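import Groth.Agent.Lib.PBDeg17.VBInj

/-!
# Vector bundles are flat with fibres of constant dimension
-/

set_option autoImplicit false
set_option backward.isDefEq.respectTransparency false
set_option linter.style.haveILetI false

universe u

open CategoryTheory CategoryTheory.Limits AlgebraicGeometry
open GrothLib.C1 GrothLib.CycFlat

noncomputable section

namespace GrothLib.TopRel17

open GrothLib GrothLib.PBDeg

variable {X : Scheme.{u}}

theorem flat_shift_vectorBundle {δ : X → ℤ} (hX : Cyc.IsSetup X δ) {ℰ : X.Modules} {r : ℕ}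
    (hr : FlatMod.IsFinLocFreeOfRank r ℰ) {A : RelSpec.QCAlg X} {j : ℰ ⟶ A.toModule}
    (hA : RelSpec.IsSymAlg ℰ A j) {δE : A.spec → ℤ} (hE : Cyc.IsSetup A.spec δE)
    (hδ : Cyc.DeltaCompat A.π δE δ) :
    Flat A.π ∧ LocallyOfFiniteType A.π ∧ ∀ v, MaxFib A.π v → δE v = δ (A.π v) + (r : ℤ) := by
  classical
  haveI := hX.1
  haveI := hE.1
  have hO : PicF.IsInvertible (Coh.structureModule X) := ParaPair.isInvertible_structure X
  have hE' : FlatMod.IsFinLocFreeOfRank (r + 1) (ℰ ⊞ Coh.structureModule X) :=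
    isFinLocFreeOfRank_biprod hr (rankOne_iff.2 hO)
  obtain ⟨P, π, O1, q, hB, -, hπ⟩ := exists_isProjBundle hE'
  haveI := hπ
  obtain ⟨δP, hδP⟩ := CycP1.exists_deltaCompat π δ
  have hPs : Cyc.IsSetup P δP := isSetup_of_lft hX π hδP
  haveI := hPs.1
  have S := setting_univ hX hE' hB hPs hδP
  haveI := S.charts.flat
  haveI := hB.epi
  obtain ⟨ψ, hψo, hψ, -⟩ := exists_openImm_projBundle hA hB
  have hψc : Cyc.DeltaCompat ψ δE δP := C1.deltaCompat_of_comp ψ π A.π hψ hδP hδ
  have hsπ : ∀ x, MaxFib π x → δP x = δ (π x) + (r : ℤ) := fun x hx => S.charts.shift S.inv S.dimP S.compat x hx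
  have hsψ : ∀ x, MaxFib ψ x → δE x = δP (ψ x) + ((0 : ℕ) : ℤ) :=
    shift_of_hasRelDim ψ (hasRelDim_openImm ψ) hψc
  refine ⟨hψ ▸ inferInstance, hψ ▸ inferInstance, fun v hv => ?_⟩
  rw [← hψ] at hv ⊢
  simpa using shift_comp ψ π hsπ hsψ v hv

end GrothLib.TopRel17

end
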